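import Groth.Agent.Lib.FibDim14.Res
import Groth.Agent.Lib.FibDim14.Comp
import Groth.Agent.Lib.EquidimAt4
import Groth.Agent.Lib.AlgSpDecent.FiniteMin
import Groth.Agent.Lib.VarDim.Irred
import Groth.Prelude.Def_AlgGrp
import Mathlib.AlgebraicGeometry.AlgClosed.Basic

/-!
# Orbit maps over an algebraically closed field
-/

universe u

set_option linter.style.haveILetI false
set_option backward.isDefEq.respectTransparency.types false

open CategoryTheory CategoryTheory.Limits MonoidalCategory CartesianMonoidalCategory MonObj GrpObj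
open AlgebraicGeometry Topology Groth.Agent.FibDim14

namespace Groth.Agent.QSect20

/-- A point without proper generization. -/
def IsMaxPt {X : Type*} [TopologicalSpace X] (x : X) : Prop := ∀ y, y ⤳ x → y = x

theorem exists_isMaxPt {X : Scheme.{u}} (a : X) : ∃ x, x ⤳ a ∧ IsMaxPt x :=
  EquidimAt4.exists_max_specializes a

/-- A maximal point of a locally noetherian scheme has a neighbourhood meeting no other component. -/
theorem exists_nhd_isMaxPt {X : Scheme.{u}} [IsLocallyNoetherian X] {ξ : X} (hξ : IsMaxPt ξ) :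
    ∃ N : X.Opens, ξ ∈ N ∧ ∀ y ∈ N, ∀ z, z ⤳ y → IsMaxPt z → z = ξ := by
  obtain ⟨V, hV, hξV, -⟩ := exists_isAffineOpen_mem_and_subset (U := (⊤ : X.Opens)) (x := ξ) trivial
  haveI : IsAffine (V : Scheme.{u}) := hV
  haveI : IsNoetherian (V : Scheme.{u}) := ⟨⟩
  have hfin := TopologicalSpace.NoetherianSpace.finite_irreducibleComponents (α := (V : Scheme.{u}))
  let S : Set (V : Scheme.{u}) := {v | IsMaxPt v}
  have hS : S.Finite := by
    refine Set.Finite.of_finite_image (f := fun v => closure {v}) (hfin.subset ?_) fun a _ b _ hab => ?_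
    · rintro _ ⟨v, hv, rfl⟩
      exact (VarDim.maximal_iff_mem_irreducibleComponents (X := (V : Scheme.{u})) v).1 hv
    · exact (show IsGenericPoint a (closure {a}) from rfl).eq hab.symm
  let bad : Set X := ⋃ v ∈ {v ∈ S | V.ι v ≠ ξ}, closure {V.ι v}
  have hbad : IsClosed bad := (hS.subset fun v hv => hv.1).isClosed_biUnion fun v _ => isClosed_closure
  refine ⟨V ⊓ ⟨badᶜ, hbad.isOpen_compl⟩, ⟨hξV, fun h => ?_⟩, fun y hy z hzy hz => ?_⟩
  · obtain ⟨v, ⟨-, hne⟩, hv⟩ := Set.mem_iUnion₂.1 h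
    exact hne (hξ _ (specializes_iff_mem_closure.2 hv))
  · by_contra hne
    have hzV : z ∈ V := hzy.mem_open V.2 hy.1
    refine hy.2 (Set.mem_iUnion₂.2 ⟨⟨z, hzV⟩, ⟨fun w hw => ?_, hne⟩, specializes_iff_mem_closure.1 hzy⟩)
    exact Subtype.ext (hz _ (hw.map V.ι.continuous))

/-- An open set meeting every neighbourhood of a maximal point contains it. -/
theorem mem_of_dense {X : Scheme.{u}} [IsLocallyNoetherian X] {ξ : X} (hξ : IsMaxPt ξ) {O : Set X} (hO : IsOpen O)
    (h : ξ ∈ closure O) : ξ ∈ O := by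
  obtain ⟨N, hξN, hN⟩ := exists_nhd_isMaxPt hξ
  obtain ⟨y, hyN, hyO⟩ := mem_closure_iff.1 h N N.2 hξN
  obtain ⟨z, hzy, hz⟩ := exists_isMaxPt y
  rw [← hN y hyN z hzy hz]
  exact hzy.mem_open hO hyO

theorem isMaxPt_of_flat {X Y : Scheme.{u}} (f : X ⟶ Y) [Flat f] {x : X} (hx : IsMaxPt x) : IsMaxPt (f x) := by
  intro y hy
  obtain ⟨x', hx', rfl⟩ := Flat.generalizingMap f hy
  rw [hx x' hx']

theorem isMaxPt_of_integral {X Y : Scheme.{u}} (f : X ⟶ Y) [IsIntegralHom f] {x : X} (hx : IsMaxPt (f x)) :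
    IsMaxPt x :=
  fun y hy => AlgSpDecent.eq_of_specializes_of_isIntegralHom f hy (hx _ (hy.map f.continuous))

variable {S : Scheme.{u}}

theorem left_apply {X Y Z : Over S} (f : X ⟶ Y) (g : Y ⟶ Z) (p : X.left) : (f ≫ g).left p = g.left (f.left p) :=
  rfl

theorem act_mul {G X Z : Over S} [GrpObj G] (a : AlgGrp.Action G X) (p q : Z ⟶ G) (r : Z ⟶ X) :
    lift (lift p q ≫ μ[G]) r ≫ a.act = lift p (lift q r ≫ a.act) ≫ a.act := by
  have h := congrArg (fun m => lift (lift p q) r ≫ m) a.mul_act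
  simpa using h

theorem act_one {G X Z : Over S} [GrpObj G] (a : AlgGrp.Action G X) (r : Z ⟶ X) :
    lift (toUnit Z ≫ η[G]) r ≫ a.act = r := by
  have h := congrArg (fun m => lift (toUnit Z) r ≫ m) a.one_act
  simpa using h

/-- Left translations as an action. -/
noncomputable def selfAct (G : Over S) [GrpObj G] : AlgGrp.Action G G where
  act := μ[G]
  one_act := MonObj.one_mul G
  mul_act := MonObj.mul_assoc G

section Translate

variable {G X T : Over S} [GrpObj G] (a : AlgGrp.Action G X)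

/-- Translation by a point with values in `T`. -/
noncomputable def tr (gm : T ⟶ G) : X ⊗ T ⟶ X ⊗ T :=
  lift (lift (snd X T ≫ gm) (fst X T) ≫ a.act) (snd X T)

theorem tr_comp (gm dl : T ⟶ G) : tr a dl ≫ tr a gm = tr a (lift gm dl ≫ μ[G]) := by
  apply CartesianMonoidalCategory.hom_ext
  · simp only [tr, Category.assoc, lift_fst, comp_lift_assoc, lift_snd_assoc, comp_lift]
    exact (act_mul a _ _ _).symm
  · simp [tr]

theorem tr_one : tr a (toUnit T ≫ η[G]) = 𝟙 (X ⊗ T) := by
  apply CartesianMonoidalCategory.hom_ext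
  · simp only [tr, lift_fst, Category.id_comp, ← Category.assoc, comp_toUnit]
    exact act_one a _
  · simp [tr]

theorem isIso_tr (gm : T ⟶ G) : IsIso (tr a gm) := by
  refine ⟨tr a (gm ≫ ι[G]), ?_, ?_⟩
  · rw [tr_comp, GrpObj.lift_comp_inv_left, tr_one]
  · rw [tr_comp, GrpObj.lift_comp_inv_right, tr_one]

/-- The orbit map of a point with values in `T`. -/
noncomputable def orbit (x : T ⟶ X) : G ⊗ T ⟶ X ⊗ T :=
  lift (lift (fst G T) (snd G T ≫ x) ≫ a.act) (snd G T)

theorem tr_orbit (gm : T ⟶ G) (x : T ⟶ X) : tr (selfAct G) gm ≫ orbit a x = orbit a x ≫ tr a gm := by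
  apply CartesianMonoidalCategory.hom_ext
  · simp only [tr, orbit, selfAct, Category.assoc, lift_fst, comp_lift_assoc, lift_snd_assoc]
    exact act_mul a _ _ _
  · simp [tr, orbit]

theorem point_tr (gm dl : T ⟶ G) :
    lift dl (𝟙 T) ≫ tr (selfAct G) gm = lift (lift gm dl ≫ μ[G]) (𝟙 T) := by
  apply CartesianMonoidalCategory.hom_ext
  · simp [tr, selfAct, ← Category.assoc, comp_lift]
  · simp [tr]

end Translate

section Field

variable {K : Type u} [Field K] [IsAlgClosed K] (t : Spec (CommRingCat.of K) ⟶ S)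

/-- Closed points of a product with an algebraically closed point are sections. -/
theorem exists_point {Y : Over S} [LocallyOfFiniteType (snd Y (Over.mk t)).left] {p : (Y ⊗ Over.mk t).left}
    (hp : IsClosed ({p} : Set (Y ⊗ Over.mk t).left)) :
    ∃ gm : Over.mk t ⟶ Y, ∀ q, (lift gm (𝟙 (Over.mk t))).left q = p := by
  let k := pointOfClosedPoint (snd Y (Over.mk t)).left p hp
  have hk : k ≫ (snd Y (Over.mk t)).left = 𝟙 _ := pointOfClosedPoint_comp _ _ _
  have hk' : k ≫ (Y ⊗ Over.mk t).hom = t := by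
    rw [← Over.w (snd Y (Over.mk t)), ← Category.assoc, hk]
    exact Category.id_comp t
  let k' : Over.mk t ⟶ Y ⊗ Over.mk t := Over.homMk k hk'
  refine ⟨k' ≫ fst Y (Over.mk t), fun q => ?_⟩
  have h : lift (k' ≫ fst Y (Over.mk t)) (𝟙 (Over.mk t)) = k' := by
    apply CartesianMonoidalCategory.hom_ext
    · simp
    · rw [lift_snd]
      exact Over.OverMorphism.ext hk.symm
  rw [h]
  exact pointOfClosedPoint_apply _ _ _ _

/-- Over an algebraically closed field an orbit map sends maximal points to maximal points as soon as some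
point goes to a maximal point. -/
theorem isMaxPt_orbit {G X : Over S} [GrpObj G] (a : AlgGrp.Action G X) (x : Over.mk t ⟶ X)
    [LocallyOfFiniteType (snd G (Over.mk t)).left]
    {r : (G ⊗ Over.mk t).left} (hr : IsMaxPt ((orbit a x).left r))
    {ep : (G ⊗ Over.mk t).left} (he : IsMaxPt ep) : IsMaxPt ((orbit a x).left ep) := by
  haveI : JacobsonSpace (Over.mk t).left := inferInstanceAs (JacobsonSpace (Spec (CommRingCat.of K)))
  haveI : IsLocallyNoetherian (Over.mk t).left := inferInstanceAs (IsLocallyNoetherian (Spec (CommRingCat.of K)))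
  haveI : JacobsonSpace (G ⊗ Over.mk t).left := LocallyOfFiniteType.jacobsonSpace (snd G (Over.mk t)).left
  haveI : IsLocallyNoetherian (G ⊗ Over.mk t).left :=
    LocallyOfFiniteType.isLocallyNoetherian (snd G (Over.mk t)).left
  obtain ⟨e0, he0r, he0⟩ := exists_isMaxPt r
  have hoe0 : IsMaxPt ((orbit a x).left e0) := by
    rw [hr _ (he0r.map (orbit a x).left.continuous)]
    exact hr
  obtain ⟨N, he0N, hN⟩ := exists_nhd_isMaxPt he0
  obtain ⟨g₀, ⟨hg₀c, hg₀N⟩, hg₀⟩ := nonempty_inter_closedPoints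
    (Z := closure {e0} ∩ (N : Set _)) ⟨e0, subset_closure rfl, he0N⟩
    (isClosed_closure.isLocallyClosed.inter N.2.isLocallyClosed)
  obtain ⟨g₁, hg₁c, hg₁⟩ := nonempty_inter_closedPoints
    (Z := closure ({ep} : Set (G ⊗ Over.mk t).left)) ⟨ep, subset_closure rfl⟩ isClosed_closure.isLocallyClosed
  obtain ⟨g0p, hg0p⟩ := exists_point t hg₀
  obtain ⟨g1p, hg1p⟩ := exists_point t hg₁
  let gm := lift g0p (g1p ≫ ι[G]) ≫ μ[G]
  let τ := tr (selfAct G) gm
  have hτ : τ.left g₁ = g₀ := by
    have h1 : lift gm g1p ≫ μ[G] = g0p := by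
      show ((g0p * g1p⁻¹) * g1p : Over.mk t ⟶ G) = g0p
      exact inv_mul_cancel_right g0p g1p
    rw [← hg1p (IsLocalRing.closedPoint K), ← left_apply, point_tr, h1, hg0p]
  haveI := isIso_tr (selfAct G) gm
  haveI : IsIso τ.left := inferInstanceAs (IsIso ((Over.forget S).map τ))
  have hτmax : IsMaxPt (τ.left ep) := fun y hy => by
    obtain ⟨y', rfl⟩ := τ.left.homeomorph.surjective y
    rw [he y' (τ.left.homeomorph.isInducing.specializes_iff.1 hy)]
    rfl
  have hτη : τ.left ep = e0 :=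
    hN g₀ hg₀N _ (hτ ▸ (specializes_iff_mem_closure.2 hg₁c).map τ.left.continuous) hτmax
  haveI := isIso_tr a gm
  haveI : IsIso (tr a gm).left := inferInstanceAs (IsIso ((Over.forget S).map (tr a gm)))
  intro y hy
  have hy' := hy.map (tr a gm).left.continuous
  rw [← left_apply, ← tr_orbit, left_apply] at hy'
  rw [show (tr (selfAct G) gm).left ep = e0 from hτη] at hy'
  have h2 := hoe0 _ hy'
  refine (tr a gm).left.homeomorph.injective ?_
  change (tr a gm).left y = (tr a gm).left ((orbit a x).left ep)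
  rw [h2, ← hτη, ← left_apply, tr_orbit]
  rfl

end Field

end Groth.Agent.QSect20
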