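import Groth.Agent.Lib.QSect20.Sop

/-!
# Charts to affine space sending a closed point of a fibre to the origin
-/

universe u

set_option linter.style.haveILetI false
set_option backward.isDefEq.respectTransparency.types false

open CategoryTheory AlgebraicGeometry Topology Groth.Agent.FibDim14

namespace Groth.Agent.QSect20

variable (S : Scheme.{u}) (n : ℕ)

/-- The zero section of affine space. -/
noncomputable def zeroSec : S ⟶ 𝔸(ULift.{u} (Fin n); S) := AffineSpace.homOfVector (𝟙 S) 0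

@[reassoc (attr := simp)]
theorem zeroSec_over : zeroSec S n ≫ (𝔸(ULift.{u} (Fin n); S) ↘ S) = 𝟙 S := AffineSpace.homOfVector_over _ _

theorem zeroSec_coord (i : ULift.{u} (Fin n)) : (zeroSec S n).appTop (AffineSpace.coord S i) = 0 :=
  AffineSpace.homOfVector_appTop_coord _ _ i

variable {S n}

/-- A point of affine space where all coordinates vanish lies on the zero section. -/
theorem eq_zeroSec_of_notMem (p : ↥(𝔸(ULift.{u} (Fin n); S)))
    (h : ∀ i, p ∉ (𝔸(ULift.{u} (Fin n); S)).basicOpen (AffineSpace.coord S i)) :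
    p = zeroSec S n ((𝔸(ULift.{u} (Fin n); S) ↘ S) p) := by
  let A : Scheme.{u} := 𝔸(ULift.{u} (Fin n); S)
  let k := A.fromSpecResidueField p
  have hk : k = (k ≫ (A ↘ S)) ≫ zeroSec S n := by
    refine AffineSpace.hom_ext (by simp [Category.assoc, A]) fun i => ?_
    rw [Scheme.Hom.comp_appTop (k ≫ (A ↘ S)), CommRingCat.comp_apply, zeroSec_coord, map_zero]
    have h1 : k ⁻¹ᵁ A.basicOpen (AffineSpace.coord S i) = ⊥ := by
      refine TopologicalSpace.Opens.ext (Set.eq_empty_iff_forall_notMem.2 fun z hz => h i ?_)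
      have hz' : k z ∈ A.basicOpen (AffineSpace.coord S i) := hz
      rwa [A.fromSpecResidueField_apply] at hz'
    rw [Scheme.preimage_basicOpen_top] at h1
    exact (AlgebraicGeometry.basicOpen_eq_bot_iff _).1 h1
  have h2 := congrArg (fun m : Spec (A.residueField p) ⟶ A => m (IsLocalRing.closedPoint _)) hk
  simp only [Scheme.Hom.comp_apply] at h2
  rwa [show k (IsLocalRing.closedPoint _) = p from A.fromSpecResidueField_apply p _] at h2

/-- Near a closed point of a fibre where the fibre dimension is `n` there is a locally quasi-finite map to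
affine `n`-space over the base sending the point to the zero section. -/
theorem exists_pointed_chart {X S : Scheme.{u}} (f : X ⟶ S) [LocallyOfFiniteType f] {x : X} {n : ℕ}
    (hcl : ∀ x', f x' = f x → x ⤳ x' → x' = x) (hn : FlatMor.fibreDimAt f x = (n : WithBot ℕ∞)) :
    ∃ (W : X.Opens) (g : (W : Scheme.{u}) ⟶ 𝔸(ULift.{u} (Fin n); S)) (hxW : x ∈ W),
      g ≫ (𝔸(ULift.{u} (Fin n); S) ↘ S) = W.ι ≫ f ∧ LocallyQuasiFinite g ∧ g ⟨x, hxW⟩ = zeroSec S n (f x) := by
  obtain ⟨V, hV, hfxV, -⟩ := exists_isAffineOpen_mem_and_subset (U := (⊤ : S.Opens)) (x := f x) trivial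
  obtain ⟨U, hU, hxU, hUV⟩ := exists_isAffineOpen_mem_and_subset (U := f ⁻¹ᵁ V) (x := x) hfxV
  have hUV : U ≤ f ⁻¹ᵁ V := hUV
  let φ := f.appLE V U hUV
  letI : Algebra Γ(S, V) Γ(X, U) := φ.hom.toAlgebra
  haveI : Algebra.FiniteType Γ(S, V) Γ(X, U) := f.finiteType_appLE hV hU hUV
  haveI : LocallyOfFiniteType (specMap Γ(S, V) Γ(X, U)) :=
    (HasRingHomProperty.Spec_iff (P := @LocallyOfFiniteType)).2 ‹Algebra.FiniteType Γ(S, V) Γ(X, U)›
  let P : Spec Γ(X, U) := hU.primeIdealOf ⟨x, hxU⟩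
  have hP : hU.fromSpec P = x := hU.fromSpec_primeIdealOf ⟨x, hxU⟩
  have hcomp : hU.fromSpec ≫ f = specMap Γ(S, V) Γ(X, U) ≫ hV.fromSpec :=
    (IsAffineOpen.SpecMap_appLE_fromSpec f hV hU hUV).symm
  have hrd : ∀ y, rd (specMap Γ(S, V) Γ(X, U)) y = rd f (hU.fromSpec y) := fun y => by
    have h1 : rd (hU.fromSpec ≫ f) y = rd f (hU.fromSpec y) := by
      rw [rd_comp, rd_of_surjectiveOnStalks hU.fromSpec, add_zero]
    rw [← h1]
    simp only [hcomp]
    rw [rd_comp, rd_of_surjectiveOnStalks hV.fromSpec, zero_add]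
  have hfib : ∀ y, specMap Γ(S, V) Γ(X, U) y = specMap Γ(S, V) Γ(X, U) P ↔ f (hU.fromSpec y) = f x := fun y => by
    rw [← hP, ← Scheme.Hom.comp_apply, ← Scheme.Hom.comp_apply, hcomp, Scheme.Hom.comp_apply,
      Scheme.Hom.comp_apply]
    exact ⟨fun h => by rw [h], fun h => hV.fromSpec.isOpenEmbedding.injective h⟩
  have hx0 : rd f x = 0 := EquidimAt4.rd_eq_zero_of_closed f hcl
  obtain ⟨b, hb, hball⟩ := exists_sop_aux (R := Γ(S, V)) (B := Γ(X, U)) P (by rw [hrd, hP, hx0]) n ⊥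
    fun y hy he _ => by
      rw [hrd]
      exact (fibreDimAt_le_iff f).1 hn.le _ (hP ▸ hy.map hU.fromSpec.continuous) ((hfib y).1 he)
  let g₀ : (U : Scheme.{u}) ⟶ 𝔸(ULift.{u} (Fin n); S) :=
    AffineSpace.homOfVector (U.ι ≫ f) fun i => U.topIso.inv (b i.down)
  have hg₀ : g₀ ≫ (𝔸(ULift.{u} (Fin n); S) ↘ S) = U.ι ≫ f := AffineSpace.homOfVector_over _ _
  have hmem : ∀ (y : Spec Γ(X, U)) (z : U) (_ : hU.fromSpec y = z.1) (i : Fin n),
      g₀ z ∈ (𝔸(ULift.{u} (Fin n); S)).basicOpen (AffineSpace.coord S ⟨i⟩) ↔ b i ∉ y.asIdeal := by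
    intro y z hyz i
    show z ∈ g₀ ⁻¹ᵁ (𝔸(ULift.{u} (Fin n); S)).basicOpen (AffineSpace.coord S ⟨i⟩) ↔ _
    rw [Scheme.preimage_basicOpen_top, show g₀.appTop (AffineSpace.coord S ⟨i⟩) = U.topIso.inv (b i) from
      AffineSpace.homOfVector_appTop_coord _ _ _]
    have h1 : U.ι ''ᵁ (U : Scheme.{u}).basicOpen (U.topIso.inv (b i)) = X.basicOpen (b i) := by
      rw [Scheme.image_basicOpen]
      simp
      exact X.basicOpen_res_eq _ _
    have h2 : z ∈ (U : Scheme.{u}).basicOpen (U.topIso.inv (b i)) ↔ z.1 ∈ X.basicOpen (b i) := by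
      rw [← h1]
      exact ⟨fun h => ⟨z, h, rfl⟩, fun ⟨w, hw, e⟩ => by rwa [← U.ι.isOpenEmbedding.injective e]⟩
    rw [h2, ← hyz]
    show y ∈ hU.fromSpec ⁻¹ᵁ X.basicOpen (b i) ↔ _
    rw [hU.fromSpec_preimage_basicOpen]
    rfl
  haveI : LocallyOfFiniteType g₀ :=
    haveI : LocallyOfFiniteType (g₀ ≫ (𝔸(ULift.{u} (Fin n); S) ↘ S)) := hg₀ ▸ inferInstance
    locallyOfFiniteType_of_comp g₀ (𝔸(ULift.{u} (Fin n); S) ↘ S)
  let x₀ : (U : Scheme.{u}) := ⟨x, hxU⟩
  have hover : ∀ y, (𝔸(ULift.{u} (Fin n); S) ↘ S) (g₀ y) = f y.1 := fun y => by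
    rw [← Scheme.Hom.comp_apply, hg₀]; rfl
  have hxz : g₀ x₀ = zeroSec S n (f x) := by
    rw [← hover x₀]
    exact eq_zeroSec_of_notMem _ fun i h => (hmem P x₀ hP i.down).1 h (hb _)
  have hqf : g₀.QuasiFiniteAt x₀ := by
    rw [← fibreDimAt_eq_zero_iff]
    refine le_antisymm ?_ (le_trans (by simp) (rd_le_fibreDimAt g₀ (specializes_refl x₀) rfl))
    refine (fibreDimAt_le_iff g₀ (n := 0)).2 fun y hy he => ?_
    have hyP : hU.fromSpec (hU.primeIdealOf y) = y.1 := hU.fromSpec_primeIdealOf y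
    have heq : hU.primeIdealOf y = P := by
      refine hball _ ?_ ((hfib _).2 ?_) bot_le fun i => ?_
      · rw [← hU.fromSpec.isEmbedding.isInducing.specializes_iff, hyP, hP]
        exact hy.map U.ι.continuous
      · rw [hyP, ← hover y, he]
        exact hover x₀
      · by_contra hni
        have h1 := (hmem (hU.primeIdealOf y) y hyP i).2 hni
        rw [he] at h1
        exact (hmem P x₀ hP i).1 h1 (hb i)
    have hyx : y = x₀ := Subtype.ext (by rw [← hyP, heq, hP])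
    rw [hyx]
    have h1 : rd (U.ι ≫ f) x₀ = rd f x := by
      rw [rd_comp, rd_of_surjectiveOnStalks U.ι, add_zero]
      rfl
    have h2 : rd (U.ι ≫ f) x₀ = rd (𝔸(ULift.{u} (Fin n); S) ↘ S) (g₀ x₀) + rd g₀ x₀ := by
      simp only [← hg₀]
      exact rd_comp g₀ _ x₀
    omega
  let O := g₀.quasiFiniteLocus
  let W : X.Opens := U.ι ''ᵁ O
  have hxW : x ∈ W := ⟨x₀, hqf, rfl⟩
  have hrange : Set.range (O.ι ≫ U.ι) = (W : Set X) := by
    rw [Scheme.Hom.comp_base, TopCat.coe_comp, Set.range_comp, Scheme.Opens.range_ι]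
    rfl
  let e := IsOpenImmersion.isoOfRangeEq W.ι (O.ι ≫ U.ι) (by rw [hrange, Scheme.Opens.range_ι])
  have he : e.hom ≫ O.ι ≫ U.ι = W.ι := IsOpenImmersion.isoOfRangeEq_hom_fac _ _ _
  haveI : LocallyQuasiFinite (O.ι ≫ g₀) := by
    rw [← Scheme.Hom.quasiFiniteLocus_eq_top_iff, eq_top_iff]
    intro t _
    show (O.ι ≫ g₀).QuasiFiniteAt t
    rw [Scheme.Hom.quasiFiniteAt_comp_iff_of_isOpenImmersion]
    exact t.2
  refine ⟨W, e.hom ≫ O.ι ≫ g₀, hxW, ?_, inferInstance, ?_⟩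
  · rw [Category.assoc, Category.assoc, hg₀, reassoc_of% he]
  · rw [Scheme.Hom.comp_apply, Scheme.Hom.comp_apply]
    have : O.ι (e.hom ⟨x, hxW⟩) = x₀ := U.ι.isOpenEmbedding.injective (by
      rw [← Scheme.Hom.comp_apply, ← Scheme.Hom.comp_apply, he]; rfl)
    rw [this, hxz]

end Groth.Agent.QSect20
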