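import Groth.Agent.Lib.Weight4.Nbhd
import Groth.Agent.Lib.AffChart4
import Groth.Agent.Lib.EtBase.Unramified
import Groth.Agent.Lib.EGA43Top.UnivOpenAt

/-!
# Finite surjective pieces after an étale base change
-/

universe u

set_option linter.style.haveILetI false
set_option backward.isDefEq.respectTransparency.types false

open CategoryTheory CategoryTheory.Limits AlgebraicGeometry Topology

namespace Groth.Agent.QSect20

/-- A quasi-finite universally open point gives, after an étale base change, a finite surjective piece with a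
single point over the given one. -/
theorem exists_finite_surjective_piece {Q S : Scheme.{u}} (π : Q ⟶ S) [LocallyOfFinitePresentation π] (q : Q)
    (hqf : π.QuasiFiniteAt q) (hopen : EGA43.IsUnivOpenAt π q) :
    ∃ (S' S'' : Scheme.{u}) (_ : IsAffine S') (w : S' ⟶ S) (ρ : S'' ⟶ S') (h : S'' ⟶ Q),
      Etale w ∧ IsFinite ρ ∧ Surjective ρ ∧ LocallyOfFinitePresentation ρ ∧ h ≫ π = ρ ≫ w ∧
      ∃ s'' : S'', (ρ ≫ w).base ⁻¹' {π q} = {s''} ∧ h s'' = q ∧ IsIso (h.residueFieldMap s'') := by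
  obtain ⟨T, g, t₀, hg, hgt, hres, V, v, hfin, hvV, hvq, hvt, huniq⟩ := Weight.exists_elementary_piece π q hqf
  haveI := hg
  haveI := hfin
  let σ := pullback.snd π g
  haveI : LocallyOfFinitePresentation σ := MorphismProperty.pullback_snd _ _ inferInstance
  -- the image of the piece is a neighbourhood
  have himg : σ.base '' (V : Set ↥(pullback π g)) ∈ 𝓝 t₀ := hvt ▸ hopen T g v hvq _ (V.2.mem_nhds hvV)
  -- shrink to isolate the point in its fibre
  obtain ⟨U, hU, hqU, -⟩ := exists_isAffineOpen_mem_and_subset (X := S) (x := π q) (U := ⊤) trivial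
  obtain ⟨O, hO, hOo, ht₀O⟩ := mem_nhds_iff.1 himg
  obtain ⟨A, hA, htA, hAU⟩ := exists_isAffineOpen_mem_and_subset (X := T) (x := t₀)
    (U := ⟨O, hOo⟩ ⊓ g ⁻¹ᵁ U) ⟨ht₀O, show g t₀ ∈ U by rw [hgt]; exact hqU⟩
  haveI : IsAffine (A : Scheme.{u}) := hA
  haveI : IsAffine (U : Scheme.{u}) := hU
  haveI : LocallyQuasiFinite g := EtBase.locallyQuasiFinite_of_formallyUnramified g
  let φ := g.resLE U A (fun z hz => (hAU hz).2)
  haveI : LocallyQuasiFinite φ := by
    show LocallyQuasiFinite (g.resLE U A _)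
    delta Scheme.Hom.resLE; infer_instance
  have hfinfib : (φ.base ⁻¹' {⟨π q, hqU⟩}).Finite := φ.finite_preimage_singleton _
  let bad : Set T := ⋃ z ∈ {z ∈ φ.base ⁻¹' {⟨π q, hqU⟩} | A.ι z ≠ t₀}, closure {A.ι z}
  have hbad : IsClosed bad := (hfinfib.subset fun z hz => hz.1).isClosed_biUnion fun z _ => isClosed_closure
  have hgι : ∀ z, g (A.ι z) = U.ι (φ z) := fun z => by
    rw [← Scheme.Hom.comp_apply, ← Scheme.Hom.comp_apply, Scheme.Hom.resLE_comp_ι]
  have ht₀bad : t₀ ∉ bad := fun h => by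
    obtain ⟨z, ⟨hzf, hzne⟩, hzt⟩ := Set.mem_iUnion₂.1 h
    have hsp : A.ι z ⤳ t₀ := specializes_iff_mem_closure.2 hzt
    have he : g (A.ι z) = g t₀ := by
      rw [hgι, hgt, show φ z = (⟨π q, hqU⟩ : (U : Scheme.{u})) from hzf]
      rfl
    have h1 := FibDim14.rd_lt_of_specializes g hsp hzne he
    rw [AffChart4.rd_eq_zero_of_lqf g (A.ι z)] at h1
    omega
  obtain ⟨B, hB, htB, hBA⟩ := exists_isAffineOpen_mem_and_subset (X := T) (x := t₀)
    (U := A ⊓ ⟨badᶜ, hbad.isOpen_compl⟩) ⟨htA, ht₀bad⟩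
  haveI : IsAffine (B : Scheme.{u}) := hB
  have hBfib : ∀ b ∈ B, g b = π q → b = t₀ := fun b hb he => by
    by_contra hne
    refine (hBA hb).2 (Set.mem_iUnion₂.2 ⟨⟨b, (hBA hb).1⟩, ⟨?_, hne⟩, subset_closure rfl⟩)
    refine U.ι.isOpenEmbedding.injective ?_
    rw [← hgι]
    exact he
  let μ := V.ι ≫ σ
  haveI : LocallyOfFinitePresentation μ := inferInstance
  let S'' : Scheme.{u} := (μ ⁻¹ᵁ B : (V : Scheme.{u}).Opens)
  let ρ : S'' ⟶ B := μ ∣_ B
  haveI : IsFinite ρ := IsZariskiLocalAtTarget.restrict (P := @IsFinite) ‹_› B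
  haveI : LocallyOfFinitePresentation ρ :=
    IsZariskiLocalAtTarget.restrict (P := @LocallyOfFinitePresentation) ‹_› B
  let h : S'' ⟶ Q := (μ ⁻¹ᵁ B).ι ≫ V.ι ≫ pullback.fst π g
  have hsurj : Surjective ρ := ⟨fun b => by
    obtain ⟨w, hw, hwb⟩ := hO (hAU (hBA b.2).1).1
    have hwB : μ ⟨w, hw⟩ ∈ B := by
      show σ w ∈ B
      rw [hwb]; exact b.2
    refine ⟨⟨⟨w, hw⟩, hwB⟩, B.ι.isOpenEmbedding.injective ?_⟩
    rw [← Scheme.Hom.comp_apply, morphismRestrict_ι, Scheme.Hom.comp_apply]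
    exact hwb⟩
  let s'' : S'' := ⟨⟨v, hvV⟩, show σ v ∈ B by rw [show σ v = t₀ from hvt]; exact htB⟩
  have hcomp : h ≫ π = ρ ≫ B.ι ≫ g := by
    rw [reassoc_of% (morphismRestrict_ι μ B)]
    simp only [h, μ, σ, Category.assoc, pullback.condition]
  refine ⟨B, S'', inferInstance, B.ι ≫ g, ρ, h, inferInstance, inferInstance, hsurj, inferInstance, hcomp,
    s'', ?_, hvq, ?_⟩
  · ext z
    simp only [Set.mem_preimage, Set.mem_singleton_iff]
    constructor
    · intro hz
      have hz' : g (μ ((μ ⁻¹ᵁ B).ι z)) = π q := by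
        rw [← Scheme.Hom.comp_apply, ← Scheme.Hom.comp_apply]
        rw [← Category.assoc, ← morphismRestrict_ι μ B, Category.assoc]
        exact hz
      have hzt := hBfib _ z.2 hz'
      have hzv := huniq (V.ι ((μ ⁻¹ᵁ B).ι z)) ((μ ⁻¹ᵁ B).ι z).2 hzt
      exact (μ ⁻¹ᵁ B).ι.isOpenEmbedding.injective (V.ι.isOpenEmbedding.injective hzv)
    · rintro rfl
      rw [← hcomp, Scheme.Hom.comp_apply]
      exact congrArg π hvq
  · obtain ⟨-, h1⟩ := Weight.pullback_residue_trivial π g v v (hvt ▸ hres) rfl rfl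
    haveI : IsIso ((pullback.fst π g).residueFieldMap v) :=
      (ConcreteCategory.isIso_iff_bijective _).2 ⟨RingHom.injective _, h1⟩
    rw [show h = ((μ ⁻¹ᵁ B).ι ≫ V.ι) ≫ pullback.fst π g from (Category.assoc _ _ _).symm,
      Scheme.residueFieldMap_comp]
    haveI : IsIso ((pullback.fst π g).residueFieldMap (((μ ⁻¹ᵁ B).ι ≫ V.ι) s'')) :=
      show IsIso ((pullback.fst π g).residueFieldMap v) from inferInstance
    exact IsIso.comp_isIso' ‹_› inferInstance

end Groth.Agent.QSect20
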