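import Groth.Agent.Lib.QSect20.Gen
import Groth.Agent.Lib.QSect20.Chart
import Groth.Agent.Lib.QSect20.Piece
import Groth.Agent.Lib.Unibr4.GoDown

/-!
# Quasi-sections through a closed point of a fibre
-/

universe u

set_option linter.style.haveILetI false
set_option backward.isDefEq.respectTransparency.types false

open CategoryTheory CategoryTheory.Limits AlgebraicGeometry Topology Groth.Agent.FibDim14

namespace Groth.Agent.QSect20

/-- The generic point of a component of a fibre. -/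
theorem component_generic {X S : Scheme.{u}} (f : X ⟶ S) [LocallyOfFiniteType f] {x z : X}
    (Z : Set ↥(f.base ⁻¹' {f.base x})) (hZ : Z ∈ irreducibleComponents ↥(f.base ⁻¹' {f.base x}))
    (hxZ : x ∈ Subtype.val '' Z) (hz : z ∈ Subtype.val '' Z ∧ Subtype.val '' Z ⊆ closure {z}) :
    z ⤳ x ∧ f z = f x ∧ IsMaxFib f z ∧ topologicalKrullDim ↥Z = (rd f z : WithBot ℕ∞) := by
  obtain ⟨hzZ, hZcl⟩ := hz
  obtain ⟨⟨z', hz's⟩, hz'Z, rfl⟩ := hzZ
  have hzf : f z' = f x := hz's
  have hzx : z' ⤳ x := specializes_iff_mem_closure.2 (hZcl hxZ)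
  have hmax : IsMaxFib f z' := by
    intro y hy he
    let y₀ : ↥(f.base ⁻¹' {f.base x}) := ⟨y, he.trans hzf⟩
    have hsub : Z ⊆ closure {y₀} := fun a ha => by
      rw [closure_subtype, Set.image_singleton]
      exact (hy.trans (specializes_iff_mem_closure.2 (hZcl ⟨a, ha, rfl⟩))).mem_closure
    have hy₀ : y₀ ∈ Z := hZ.2 isIrreducible_singleton.closure hsub (subset_closure rfl)
    exact (hy.antisymm (specializes_iff_mem_closure.2 (hZcl ⟨_, hy₀, rfl⟩))).eq
  have hval : Subtype.val '' Z = closure {z'} ∩ f.base ⁻¹' {f.base z'} := by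
    ext a
    constructor
    · rintro ⟨b, hb, rfl⟩
      exact ⟨hZcl ⟨b, hb, rfl⟩, b.2.trans hzf.symm⟩
    · rintro ⟨ha, has⟩
      refine ⟨⟨a, (Set.mem_singleton_iff.1 has).trans hzf⟩, ?_, rfl⟩
      refine (Specializes.mem_closed ?_ (isClosed_of_mem_irreducibleComponents Z hZ) hz'Z)
      rw [subtype_specializes_iff]
      exact specializes_iff_mem_closure.2 ha
  refine ⟨hzx, hzf, hmax, ?_⟩
  have h1 := (IsEmbedding.subtypeVal.homeomorphImage Z).isHomeomorph.topologicalKrullDim_eq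
  rw [hval, (FibSub4.closure_fibre f z').1] at h1
  exact h1

/-- A residue field map which is surjective on stalks is an isomorphism. -/
theorem isIso_residueFieldMap {X Y : Scheme.{u}} (f : X ⟶ Y) [SurjectiveOnStalks f] (x : X) :
    IsIso (f.residueFieldMap x) := by
  refine (ConcreteCategory.isIso_iff_bijective _).2 ⟨RingHom.injective _, fun b => ?_⟩
  obtain ⟨b', rfl⟩ := X.residue_surjective x b
  obtain ⟨a, rfl⟩ := f.stalkMap_surjective x b'
  refine ⟨Y.residue (f x) a, ?_⟩
  rw [← CommRingCat.comp_apply, Scheme.residue_residueFieldMap, CommRingCat.comp_apply]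

/-- Quasi-sections through a closed point of a fibre at which there is a universally open component of
maximal dimension. -/
theorem exists_quasiSection {X S : Scheme.{u}} (f : X ⟶ S) [LocallyOfFinitePresentation f] {x z : X}
    (hcl : ∀ x', f x' = f x → x ⤳ x' → x' = x) (hzx : z ⤳ x) (hzf : f z = f x) (hzmax : IsMaxFib f z)
    (hopen : EGA43.IsUnivOpenAt f z) (hdim : FlatMor.fibreDimAt f x = (rd f z : WithBot ℕ∞)) :
    ∃ (S' S'' : Scheme.{u}) (_ : IsAffine S') (w : S' ⟶ S) (π : S'' ⟶ S') (h : S'' ⟶ X),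
      Etale w ∧ IsFinite π ∧ Surjective π ∧ LocallyOfFinitePresentation π ∧ h ≫ f = π ≫ w ∧
      ∃ s'' : S'', (π ≫ w).base ⁻¹' {f x} = {s''} ∧ h s'' = x ∧ IsIso (h.residueFieldMap s'') := by
  obtain ⟨W, g, hxW, hg, hlqf, hgx⟩ := exists_pointed_chart f hcl hdim
  haveI := hlqf
  let n := rd f z
  have hzW : z ∈ W := hzx.mem_open W.2 hxW
  let fW := W.ι ≫ f
  haveI : LocallyOfFinitePresentation fW := inferInstance
  haveI : UniversallyOpen W.ι := inferInstance
  have hopenW : EGA43.IsUnivOpenAt fW ⟨z, hzW⟩ :=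
    EGA43Top.isUnivOpenAt_comp (Unibr4.isUnivOpenAt_of_universallyOpen W.ι _) hopen
  have hmaxW : IsMaxFib fW ⟨z, hzW⟩ := fun y hy he =>
    Subtype.ext (hzmax _ (hy.map W.ι.continuous) he)
  have hrdW : rd fW ⟨z, hzW⟩ = n := by
    rw [rd_comp, rd_of_surjectiveOnStalks W.ι, add_zero]
    rfl
  have hgopen : EGA43.IsUnivOpenAt g ⟨x, hxW⟩ :=
    isUnivOpenAt_of_toAffineSpace fW g hg (z := ⟨z, hzW⟩) ((subtype_specializes_iff _ _).2 hzx) hzf hmaxW hrdW hopenW
  haveI : LocallyOfFinitePresentation g :=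
    haveI : LocallyOfFinitePresentation (g ≫ (𝔸(ULift.{u} (Fin n); S) ↘ S)) := hg ▸ inferInstance
    SchBasic.locallyOfFinitePresentation_of_comp g (𝔸(ULift.{u} (Fin n); S) ↘ S)
  obtain ⟨q, hq1, hq2⟩ := Scheme.Pullback.exists_preimage_pullback (f := g) (g := zeroSec S n)
    (⟨x, hxW⟩ : (W : Scheme.{u})) (f x) hgx
  let σ := pullback.snd g (zeroSec S n)
  haveI : LocallyOfFinitePresentation σ := MorphismProperty.pullback_snd _ _ inferInstance
  haveI : LocallyQuasiFinite σ := MorphismProperty.pullback_snd _ _ inferInstance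
  have hσopen : EGA43.IsUnivOpenAt σ q :=
    EGA43Top.isUnivOpenAt_baseChange (IsPullback.of_hasPullback g (zeroSec S n)) (hq1.symm ▸ hgopen)
  obtain ⟨S', S'', hS', w, ρ, h', hw, hρ, hρs, hρp, hcomp, s'', hs, hh', hres⟩ :=
    exists_finite_surjective_piece σ q (σ.quasiFiniteAt q) hσopen
  haveI : IsClosedImmersion (zeroSec S n) :=
    haveI : IsClosedImmersion (zeroSec S n ≫ (𝔸(ULift.{u} (Fin n); S) ↘ S)) :=
      (zeroSec_over S n).symm ▸ inferInstance
    IsClosedImmersion.of_comp (zeroSec S n) (𝔸(ULift.{u} (Fin n); S) ↘ S)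
  haveI : IsClosedImmersion (pullback.fst g (zeroSec S n)) := MorphismProperty.pullback_fst _ _ inferInstance
  refine ⟨S', S'', hS', w, ρ, h' ≫ pullback.fst g (zeroSec S n) ≫ W.ι, hw, hρ, hρs, hρp, ?_, s'', ?_, ?_, ?_⟩
  · simp only [Category.assoc]
    rw [← hg, ← Category.assoc (pullback.fst g (zeroSec S n)), pullback.condition, Category.assoc, zeroSec_over,
      Category.comp_id]
    exact hcomp
  · rw [← hq2]
    exact hs
  · rw [Scheme.Hom.comp_apply, Scheme.Hom.comp_apply, hh', hq1]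
    rfl
  · rw [Scheme.residueFieldMap_comp]
    haveI := isIso_residueFieldMap (pullback.fst g (zeroSec S n) ≫ W.ι) (h' s'')
    exact IsIso.comp_isIso' this hres

end Groth.Agent.QSect20
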