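import Groth.Agent.Lib.FibVal4
import Groth.Agent.Lib.FibSub4
import Groth.Agent.Lib.AffChart4
import Groth.Agent.Lib.EGA43Top.OpenCriterion
import Groth.Agent.Lib.Unibr4.Scheme
import Groth.Agent.Lib.Unibr4.Poly
import Groth.Agent.Lib.SchBasic.Basic
import Groth.Agent.Lib.UnivOpenFin5.Normal
import Mathlib.AlgebraicGeometry.ValuativeCriterion

/-!
# Quasi-finite maps to affine space over a base: lifting of generizations
-/

universe u

set_option linter.style.haveILetI false
set_option backward.isDefEq.respectTransparency.types false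

open CategoryTheory CategoryTheory.Limits AlgebraicGeometry Topology Groth.Agent.FibDim14

namespace Groth.Agent.QSect20

/-- Generizations inside a fibre lift along base change. -/
theorem exists_lift_gen_fibre {X S X' S' : Scheme.{u}} {f : X ⟶ S} {g : S' ⟶ S} {f' : X' ⟶ S'}
    {g' : X' ⟶ X} [LocallyOfFiniteType f] (hsq : IsPullback g' f' f g) {x' : X'} {z : X} (hz : z ⤳ g' x')
    (hzf : f z = f (g' x')) :
    ∃ z', z' ⤳ x' ∧ f' z' = f' x' ∧ g' z' = z := by
  obtain ⟨pr, hpr, sq⟩ := exists_fibre_square hsq (f' x')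
  have hfib : f (g' x') = g (f' x') := by
    rw [← Scheme.Hom.comp_apply, hsq.w, Scheme.Hom.comp_apply]
  let zb := (f.fiberHomeo (g (f' x'))).symm ⟨z, hzf.trans hfib⟩
  have hzb : f.fiberι _ zb = z := f.fiberι_fiberHomeo_symm _ _
  have hsp : zb ⤳ pr (f'.asFiber x') := by
    rw [← (f.fiberι (g (f' x'))).isEmbedding.isInducing.specializes_iff, hzb, hpr, f'.fiberι_asFiber]
    exact hz
  haveI : Flat pr := MorphismProperty.of_isPullback sq.flip inferInstance
  obtain ⟨w, hw, hwb⟩ := DimF18.exists_lift_specializes pr hsp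
  refine ⟨f'.fiberι _ w, ?_, ?_, ?_⟩
  · simpa using hw.map (f'.fiberι (f' x')).continuous
  · exact (f'.range_fiberι _).le ⟨w, rfl⟩
  · rw [← hpr, hwb, hzb]

/-- Affine space over a valuation ring has normal local rings. -/
theorem isUnibranch_stalk_affineSpace (V : Type u) [CommRing V] [IsDomain V] [IsIntegrallyClosed V] (n : ℕ)
    (p : ↥(𝔸(ULift.{u} (Fin n); Spec (CommRingCat.of V)))) :
    CAlg2.IsUnibranch ((𝔸(ULift.{u} (Fin n); Spec (CommRingCat.of V))).presheaf.stalk p) := by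
  let B := CommRingCat.of (MvPolynomial (ULift.{u} (Fin n)) V)
  let e := AffineSpace.SpecIso (ULift.{u} (Fin n)) (CommRingCat.of V)
  haveI : IsIntegrallyClosed (MvPolynomial (Fin n) V) := Unibr4.isIntegrallyClosed_mvPolynomial V n
  haveI : IsIntegrallyClosed B :=
    IsIntegrallyClosed.of_equiv (MvPolynomial.renameEquiv V (Equiv.ulift.{u, 0} (α := Fin n))).symm.toRingEquiv
  haveI := (e.hom p).2
  have hle : (e.hom p).asIdeal.primeCompl ≤ nonZeroDivisors B := Ideal.primeCompl_le_nonZeroDivisors _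
  let ψ : Localization.AtPrime (e.hom p).asIdeal ≃+*
      (𝔸(ULift.{u} (Fin n); Spec (CommRingCat.of V))).presheaf.stalk p :=
    ((Spec.stalkIso B (e.hom p)).symm ≪≫ asIso (e.hom.stalkMap p)).commRingCatIsoToRingEquiv
  haveI : IsDomain (Localization.AtPrime (e.hom p).asIdeal) := IsLocalization.isDomain_localization hle
  haveI : IsIntegrallyClosed (Localization.AtPrime (e.hom p).asIdeal) :=
    isIntegrallyClosed_of_isLocalization (R := B) _ (e.hom p).asIdeal.primeCompl hle
  haveI := ψ.symm.toMulEquiv.isDomain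
  haveI : IsIntegrallyClosed ((𝔸(ULift.{u} (Fin n); Spec (CommRingCat.of V))).presheaf.stalk p) :=
    IsIntegrallyClosed.of_equiv ψ
  exact (UnivOpenFin5.isGeomUnibranch_of_normal _).1

/-- The key lifting statement over a valuation ring. -/
theorem exists_gen_over_valuationRing {X S : Scheme.{u}} (f : X ⟶ S) [LocallyOfFiniteType f] {n : ℕ}
    (q : X ⟶ 𝔸(ULift.{u} (Fin n); S)) [LocallyQuasiFinite q]
    (hq : q ≫ (𝔸(ULift.{u} (Fin n); S) ↘ S) = f) {x z : X} (hzx : z ⤳ x) (hzf : f z = f x)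
    (hzmax : IsMaxFib f z) (hzd : rd f z = n) (hopen : EGA43.IsUnivOpenAt f z)
    {V : Type u} [CommRing V] [IsDomain V] [ValuationRing V]
    (σ : Spec (CommRingCat.of V) ⟶ 𝔸(ULift.{u} (Fin n); S))
    {W : Scheme.{u}} {k : W ⟶ X} {π : W ⟶ Spec (CommRingCat.of V)} (hsq : IsPullback k π q σ)
    (w : W) (hk : k w = x) :
    ∃ t, t ⤳ w ∧ (π t : PrimeSpectrum V).asIdeal = ⊥ := by
  let T := Spec (CommRingCat.of V)
  let g : T ⟶ S := σ ≫ (𝔸(ULift.{u} (Fin n); S) ↘ S)
  let fV := pullback.snd f g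
  let prX := pullback.fst f g
  have hP : IsPullback prX fV f g := IsPullback.of_hasPullback f g
  have hA := AffineSpace.isPullback_map (n := ULift.{u} (Fin n)) g
  let qV : pullback f g ⟶ 𝔸(ULift.{u} (Fin n); T) :=
    hA.lift (prX ≫ q) fV (by rw [Category.assoc, hq]; exact pullback.condition)
  have hqV1 : qV ≫ AffineSpace.map (ULift.{u} (Fin n)) g = prX ≫ q := hA.lift_fst _ _ _
  have hqV2 : qV ≫ (𝔸(ULift.{u} (Fin n); T) ↘ T) = fV := hA.lift_snd _ _ _
  have hU : IsPullback prX qV q (AffineSpace.map (ULift.{u} (Fin n)) g) := by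
    refine IsPullback.of_bot ?_ hqV1.symm hA
    rw [hqV2, hq]
    exact hP
  haveI : LocallyOfFiniteType q :=
    haveI : LocallyOfFiniteType (q ≫ (𝔸(ULift.{u} (Fin n); S) ↘ S)) := hq ▸ inferInstance
    locallyOfFiniteType_of_comp q (𝔸(ULift.{u} (Fin n); S) ↘ S)
  haveI : LocallyOfFiniteType qV := MorphismProperty.of_isPullback hU inferInstance
  haveI : LocallyQuasiFinite qV := MorphismProperty.of_isPullback hU inferInstance
  haveI : LocallyOfFiniteType fV := MorphismProperty.of_isPullback hP inferInstance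
  -- the section of affine space
  let τ : T ⟶ 𝔸(ULift.{u} (Fin n); T) := hA.lift σ (𝟙 T) (by simp [g])
  have hτ1 : τ ≫ AffineSpace.map (ULift.{u} (Fin n)) g = σ := hA.lift_fst _ _ _
  have hτ2 : τ ≫ (𝔸(ULift.{u} (Fin n); T) ↘ T) = 𝟙 T := hA.lift_snd _ _ _
  haveI : IsClosedImmersion τ :=
    haveI : IsClosedImmersion (τ ≫ (𝔸(ULift.{u} (Fin n); T) ↘ T)) := hτ2 ▸ inferInstance
    IsClosedImmersion.of_comp τ (𝔸(ULift.{u} (Fin n); T) ↘ T)
  let j : W ⟶ pullback f g := pullback.lift k π (by rw [← hq, ← Category.assoc, hsq.w]; simp [g])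
  have hj1 : j ≫ prX = k := pullback.lift_fst _ _ _
  have hj2 : j ≫ fV = π := pullback.lift_snd _ _ _
  have hjq : j ≫ qV = π ≫ τ := by
    refine hA.hom_ext ?_ ?_
    · rw [Category.assoc, hqV1, ← Category.assoc, hj1, Category.assoc, hτ1, hsq.w]
    · rw [Category.assoc, hqV2, hj2, Category.assoc, hτ2, Category.comp_id]
  have hJ : IsPullback j π qV τ := by
    refine IsPullback.of_right ?_ hjq hU
    rw [hj1, hτ1]
    exact hsq
  haveI : IsClosedImmersion j := MorphismProperty.of_isPullback hJ.flip inferInstance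
  -- a generic point of the special fibre above `z`
  have hjx : prX (j w) = x := by rw [← Scheme.Hom.comp_apply, hj1, hk]
  obtain ⟨z', hz'w, hz'f, hz'z⟩ := exists_lift_gen_fibre hP (x' := j w) (z := z) (hjx ▸ hzx) (hjx ▸ hzf)
  obtain ⟨z'', hz''z', hz''f, hz''max, -⟩ := FibGen4.exists_isMaxFib fV z'
  have hz''z : prX z'' = z := by
    refine hzmax _ (hz'z ▸ hz''z'.map prX.continuous) ?_
    rw [← hz'z, ← Scheme.Hom.comp_apply, ← Scheme.Hom.comp_apply, hP.w, Scheme.Hom.comp_apply,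
      Scheme.Hom.comp_apply, hz''f]
    rfl
  have hd : FlatMor.fibreDimAt fV z'' = (n : WithBot ℕ∞) := by
    rw [fibreDimAt_baseChange hP z'', hz''z, FibGen4.fibreDimAt_eq_rd_of_isMaxFib f hzmax, hzd]
  -- a generization over the generic point
  let γ : T := ⟨⊥, Ideal.isPrime_bot⟩
  have hγ : ∀ y : T, γ ⤳ y := fun y => (PrimeSpectrum.le_iff_specializes γ y).1 bot_le
  obtain ⟨t, ht, htγ⟩ := EGA43Top.liftsAt_of_isOpenAt (hopen T g z'' hz''z) γ (hγ _)
  have hrd : (n : WithBot ℕ∞) ≤ (rd fV t : WithBot ℕ∞) :=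
    hd ▸ FibGen4.fibreDimAt_le_rd_of_valuationRing fV hz''max ht (congrArg PrimeSpectrum.asIdeal htγ)
  have hrd' : n ≤ rd fV t := by exact_mod_cast hrd
  have hcomp : rd fV t = rd (𝔸(ULift.{u} (Fin n); T) ↘ T) (qV t) + rd qV t := by
    simp only [← hqV2]
    exact rd_comp qV (𝔸(ULift.{u} (Fin n); T) ↘ T) t
  rw [AffChart4.rd_eq_zero_of_lqf qV t, add_zero] at hcomp
  have hle : rd (𝔸(ULift.{u} (Fin n); T) ↘ T) (qV t) ≤ n := by
    have h := rd_le_fibreDimAt (𝔸(ULift.{u} (Fin n); T) ↘ T) (specializes_refl (qV t)) rfl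
    rw [AffChart4.fibreDimAt_affineSpace_over] at h
    exact_mod_cast h
  have hmaxA : IsMaxFib (𝔸(ULift.{u} (Fin n); T) ↘ T) (qV t) :=
    AffChart4.isMaxFib_of_rd_eq _ (n := n) (fun y => (AffChart4.fibreDimAt_affineSpace_over T n y).le)
      (by omega)
  have hAt : (𝔸(ULift.{u} (Fin n); T) ↘ T) (qV t) = γ := by
    rw [← Scheme.Hom.comp_apply, hqV2]; exact htγ
  have hgen : ∀ y, y ⤳ qV t → y = qV t := fun y hy => by
    refine hmaxA y hy ?_
    have h1 := hy.map (𝔸(ULift.{u} (Fin n); T) ↘ T).continuous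
    rw [hAt] at h1 ⊢
    exact (h1.antisymm (hγ _)).eq
  haveI : IrreducibleSpace T := inferInstance
  have hop := Unibr4.isOpenAt qV (j w) t (Or.inr inferInstance) (isUnibranch_stalk_affineSpace V n _)
    (ht.trans (hz''z'.trans hz'w)) hgen (qV.quasiFiniteAt _)
  have hsp : τ γ ⤳ qV (j w) := by
    rw [← Scheme.Hom.comp_apply, hjq, Scheme.Hom.comp_apply]
    exact (hγ _).map τ.continuous
  obtain ⟨t', ht', ht'τ⟩ := EGA43Top.liftsAt_of_isOpenAt hop (τ γ) hsp
  obtain ⟨v, hv1, hv2⟩ := Scheme.exists_preimage_of_isPullback hJ t' γ ht'τ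
  refine ⟨v, j.isEmbedding.isInducing.specializes_iff.1 (hv1 ▸ ht'), ?_⟩
  rw [hv2]

/-- A locally quasi-finite map to affine `n`-space over the base is universally open below an `n`-dimensional
component of the fibre along which the structure map is universally open. -/
theorem isUnivOpenAt_of_toAffineSpace {X S : Scheme.{u}} (f : X ⟶ S) [LocallyOfFinitePresentation f] {n : ℕ}
    (q : X ⟶ 𝔸(ULift.{u} (Fin n); S)) [LocallyQuasiFinite q]
    (hq : q ≫ (𝔸(ULift.{u} (Fin n); S) ↘ S) = f) {x z : X} (hzx : z ⤳ x) (hzf : f z = f x)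
    (hzmax : IsMaxFib f z) (hzd : rd f z = n) (hopen : EGA43.IsUnivOpenAt f z) :
    EGA43.IsUnivOpenAt q x := by
  haveI : LocallyOfFinitePresentation q :=
    haveI : LocallyOfFinitePresentation (q ≫ (𝔸(ULift.{u} (Fin n); S) ↘ S)) := hq ▸ inferInstance
    SchBasic.locallyOfFinitePresentation_of_comp q (𝔸(ULift.{u} (Fin n); S) ↘ S)
  rw [EGA43Top.isUnivOpenAt_iff_liftsAt]
  intro Y g₀ x₁ hx₁ y' hy
  set y := pullback.snd q g₀ x₁
  let φ : Y.presheaf.stalk y ⟶ Y.residueField y' := Y.presheaf.stalkSpecializes hy ≫ Y.residue y'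
  obtain ⟨A, hA, hA_local⟩ := IsLocalRing.exists_factor_valuationRing φ.hom
  let ψ : Y.presheaf.stalk y ⟶ .of A := CommRingCat.ofHom (φ.hom.codRestrict _ hA)
  let a : Spec (.of A) ⟶ Y := Spec.map ψ ≫ Y.fromSpecStalk y
  have hac : a (IsLocalRing.closedPoint A) = y := by
    have h1 : Spec.map ψ (IsLocalRing.closedPoint A) = IsLocalRing.closedPoint (Y.presheaf.stalk y) :=
      IsLocalRing.comap_closedPoint (S := A) (φ.hom.codRestrict A.toSubring hA)
    show Y.fromSpecStalk y (Spec.map ψ (IsLocalRing.closedPoint A)) = y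
    rw [h1, Y.fromSpecStalk_closedPoint]
  let ι' : Spec (Y.residueField y') ⟶ Spec (.of A) :=
    Spec.map (CommRingCat.ofHom (algebraMap A (Y.residueField y')))
  have hι : (ι' (IsLocalRing.closedPoint (Y.residueField y')) : PrimeSpectrum A).asIdeal = ⊥ := by
    show (IsLocalRing.closedPoint (Y.residueField y')).asIdeal.comap (algebraMap A (Y.residueField y')) = ⊥
    rw [show (IsLocalRing.closedPoint (Y.residueField y')).asIdeal = ⊥ from IsLocalRing.maximalIdeal_eq_bot,
      ← RingHom.ker_eq_comap_bot]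
    exact (RingHom.injective_iff_ker_eq_bot _).1 (FaithfulSMul.algebraMap_injective _ _)
  have hag : a (ι' (IsLocalRing.closedPoint (Y.residueField y'))) = y' := by
    have hjg : ι' ≫ a = Y.fromSpecResidueField y' := by
      rw [Scheme.fromSpecResidueField, ← Scheme.SpecMap_stalkSpecializes_fromSpecStalk hy]
      simp_rw [ι', a, ← Spec.map_comp_assoc]
      rfl
    rw [← Scheme.Hom.comp_apply, hjg, Scheme.fromSpecResidueField_apply]
  obtain ⟨w, hw1, -⟩ := Scheme.Pullback.exists_preimage_pullback (f := pullback.snd q g₀) (g := a) x₁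
    (IsLocalRing.closedPoint A) hac.symm
  have hsq := (IsPullback.of_hasPullback (pullback.snd q g₀) a).paste_horiz (IsPullback.of_hasPullback q g₀)
  obtain ⟨t, ht, htγ⟩ := exists_gen_over_valuationRing f q hq hzx hzf hzmax hzd hopen (a ≫ g₀) hsq w
    (by rw [Scheme.Hom.comp_apply, hw1, hx₁])
  refine ⟨pullback.fst (pullback.snd q g₀) a t, hw1 ▸ ht.map (pullback.fst _ a).continuous, ?_⟩
  rw [← Scheme.Hom.comp_apply, pullback.condition, Scheme.Hom.comp_apply]
  exact (congrArg a (PrimeSpectrum.ext (htγ.trans hι.symm))).trans hag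

end Groth.Agent.QSect20
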