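import Groth.Agent.Lib.AffChart4
import Groth.Agent.Lib.QuasiSection4
import Mathlib.RingTheory.Spectrum.Prime.RingHom
import Mathlib.RingTheory.Ideal.MinimalPrime.Noetherian

/-!
# Systems of parameters at a closed point of a fibre
-/

universe u

set_option linter.style.haveILetI false
set_option backward.isDefEq.respectTransparency.types false

open CategoryTheory AlgebraicGeometry Topology Groth.Agent.FibDim14

namespace Groth.Agent.QSect20

variable {R B : Type u} [CommRing R] [CommRing B] [Algebra R B] [Algebra.FiniteType R B]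

/-- An element of `P` outside the minimal primes of the fibre containing `I`, other than `P`. -/
theorem exists_avoid (I P : Ideal B) [P.IsPrime] :
    ∃ b ∈ P, ∀ Q : Ideal B, Q.IsPrime → I ≤ Q → Q ≤ P → Q.under R = P.under R →
      ∃ Q₀ : Ideal B, Q₀.IsPrime ∧ I ≤ Q₀ ∧ Q₀ ≤ Q ∧ Q₀.under R = P.under R ∧ (Q₀ = P ∨ b ∉ Q₀) := by
  classical
  set p := P.under R
  let C := B ⧸ I
  let mk : B →+* C := Ideal.Quotient.mk I
  haveI : IsNoetherianRing (p.Fiber C) :=
    Algebra.FiniteType.isNoetherianRing p.ResidueField (p.Fiber C)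
  let e := PrimeSpectrum.primesOverOrderIsoFiber R C p
  let F : Set (Ideal B) := (fun q => (e.symm q).1.comap mk) ''
    {q : PrimeSpectrum (p.Fiber C) | q.asIdeal ∈ minimalPrimes (p.Fiber C)}
  have hF : F.Finite := ((minimalPrimes.finite_of_isNoetherianRing (p.Fiber C)).preimage
      (fun a _ b _ h => PrimeSpectrum.ext h)).image _
  have hFp : ∀ J ∈ F, J.IsPrime ∧ I ≤ J ∧ J.under R = p := by
    rintro _ ⟨q, -, rfl⟩
    haveI := (e.symm q).2.1
    refine ⟨inferInstance, fun t ht => ?_, ?_⟩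
    · show mk t ∈ (e.symm q).1
      rw [show mk t = 0 from Ideal.Quotient.eq_zero_iff_mem.2 ht]
      exact zero_mem _
    · exact (Ideal.comap_comap (I := (e.symm q).1) (algebraMap R B) mk).trans (e.symm q).2.2.over.symm
  let G : Set (Ideal B) := {J ∈ F | J ≤ P ∧ J ≠ P}
  have hG : G.Finite := hF.subset fun J hJ => hJ.1
  obtain ⟨b, hbP, hb⟩ : ∃ b ∈ P, ∀ J ∈ G, b ∉ J := by
    by_contra hn
    push Not at hn
    have hsub : (P : Set B) ⊆ ⋃ J ∈ (↑hG.toFinset : Set (Ideal B)), (J : Set B) := by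
      intro s hs
      obtain ⟨J, hJ, hsJ⟩ := hn s hs
      exact Set.mem_iUnion₂.2 ⟨J, by simpa using hJ, hsJ⟩
    obtain ⟨J, hJ, hle⟩ := (Ideal.subset_union_prime (f := fun J : Ideal B => J) ⊥ ⊥
      (fun J hJ _ _ => (hFp J (hG.mem_toFinset.1 hJ).1).1)).1 hsub
    obtain ⟨-, hJP, hne⟩ := hG.mem_toFinset.1 hJ
    exact hne (le_antisymm hJP hle)
  refine ⟨b, hbP, fun Q hQ hIQ hQP hQp => ?_⟩
  let Q' : Ideal C := Q.map mk
  have hQ'c : Q'.comap mk = Q := by
    rw [Ideal.comap_map_of_surjective _ Ideal.Quotient.mk_surjective, ← RingHom.ker_eq_comap_bot,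
      Ideal.mk_ker, sup_eq_left.2 hIQ]
  haveI : Q'.IsPrime := Ideal.map_isPrime_of_surjective Ideal.Quotient.mk_surjective
    (by rw [Ideal.mk_ker]; exact hIQ)
  haveI : Q'.LiesOver p := ⟨by
    rw [← hQp]
    show Q.comap (algebraMap R B) = Q'.comap (algebraMap R C)
    conv_lhs => rw [← hQ'c, Ideal.comap_comap]
    rfl⟩
  let q := e ⟨Q', inferInstance, inferInstance⟩
  obtain ⟨m, hm, hmq⟩ := Ideal.exists_minimalPrimes_le (J := q.asIdeal) (bot_le : ⊥ ≤ q.asIdeal)
  haveI := Ideal.minimalPrimes_isPrime hm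
  let m' : PrimeSpectrum (p.Fiber C) := ⟨m, inferInstance⟩
  have hmem : (e.symm m').1.comap mk ∈ F := ⟨m', hm, rfl⟩
  have hle : (e.symm m').1.comap mk ≤ Q := by
    have h1 : e.symm m' ≤ e.symm q := e.symm.monotone hmq
    rw [OrderIso.symm_apply_apply] at h1
    exact (Ideal.comap_mono h1).trans hQ'c.le
  obtain ⟨h1, h2, h3⟩ := hFp _ hmem
  refine ⟨_, h1, h2, hle, h3, ?_⟩
  by_cases hne : (e.symm m').1.comap mk = P
  · exact Or.inl hne
  · exact Or.inr (hb _ ⟨hmem, hle.trans hQP, hne⟩)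

variable (R) in
/-- The structure map of the spectrum. -/
noncomputable abbrev specMap (B : Type u) [CommRing B] [Algebra R B] : Spec (CommRingCat.of B) ⟶ Spec (CommRingCat.of R) :=
  Spec.map (CommRingCat.ofHom (algebraMap R B))

theorem exists_sop_aux [LocallyOfFiniteType (specMap R B)] (P : Spec (CommRingCat.of B))
    (hP : rd (specMap R B) P = 0) :
    ∀ (m : ℕ) (I : Ideal B),
      (∀ y, y ⤳ P → specMap R B y = specMap R B P → I ≤ y.asIdeal → rd (specMap R B) y ≤ m) →
      ∃ b : Fin m → B, (∀ i, b i ∈ P.asIdeal) ∧ ∀ y, y ⤳ P → specMap R B y = specMap R B P → I ≤ y.asIdeal →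
        (∀ i, b i ∈ y.asIdeal) → y = P := by
  intro m
  induction m with
  | zero =>
    refine fun I h => ⟨Fin.elim0, fun i => i.elim0, fun y hy he hI _ => ?_⟩
    by_contra hne
    have := rd_lt_of_specializes (specMap R B) hy hne he
    have := h y hy he hI
    omega
  | succ m ih =>
    intro I h
    haveI : P.asIdeal.IsPrime := P.2
    obtain ⟨b₀, hb₀, hav⟩ := exists_avoid (R := R) I P.asIdeal
    obtain ⟨b, hb, hball⟩ := ih (I ⊔ Ideal.span {b₀}) fun y hy he hI => by
      have hIy : I ≤ y.asIdeal := le_sup_left.trans hI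
      have hby : b₀ ∈ y.asIdeal := hI (Ideal.mem_sup_right (Ideal.mem_span_singleton_self b₀))
      by_cases hyP : y = P
      · rw [hyP, hP]; exact Nat.zero_le _
      obtain ⟨Q₀, hQ₀, hIQ₀, hQ₀y, hQ₀p, hor⟩ := hav y.asIdeal y.2 hIy
        ((PrimeSpectrum.le_iff_specializes y P).2 hy) (congrArg PrimeSpectrum.asIdeal he)
      let y₀ : Spec (CommRingCat.of B) := ⟨Q₀, hQ₀⟩
      have hy₀y : y₀ ⤳ y := (PrimeSpectrum.le_iff_specializes y₀ y).1 hQ₀y
      have hne : y₀ ≠ y := fun h' => by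
        rcases hor with hP' | hb'
        · exact hyP (le_antisymm ((PrimeSpectrum.le_iff_specializes y P).2 hy)
            (by rw [← hP']; exact hQ₀y) |> PrimeSpectrum.ext)
        · exact hb' (by rw [show Q₀ = y.asIdeal from congrArg PrimeSpectrum.asIdeal h']; exact hby)
      have hy₀e : specMap R B y₀ = specMap R B P := PrimeSpectrum.ext hQ₀p
      have h1 := rd_lt_of_specializes (specMap R B) hy₀y hne (hy₀e.trans he.symm)
      have h2 := h y₀ (hy₀y.trans hy) hy₀e hIQ₀
      omega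
    refine ⟨Fin.cons b₀ b, Fin.cases hb₀ hb, fun y hy he hI hall => hball y hy he ?_ fun i => hall i.succ⟩
    exact sup_le hI ((Ideal.span_singleton_le_iff_mem _).2 (hall 0))

end Groth.Agent.QSect20
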