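import Groth.Agent.Lib.QSect20.Orbit
import Groth.Agent.Lib.QSect20.Component
import Mathlib.FieldTheory.IsAlgClosed.AlgebraicClosure

/-!
# Closed points of a group fibre translating a finite set into a dense open
-/

universe u

set_option linter.style.haveILetI false
set_option backward.isDefEq.respectTransparency.types false

open CategoryTheory CategoryTheory.Limits MonoidalCategory CartesianMonoidalCategory MonObj GrpObj
open AlgebraicGeometry Topology Groth.Agent.FibDim14

namespace Groth.Agent.QSect20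

variable {S : Scheme.{u}}

/-- The change of one factor of a product is a base change. -/
theorem isPullback_map_snd (Y : Over S) {T Z : Over S} (x : T ⟶ Z) :
    IsPullback (lift (fst Y T) (snd Y T ≫ x)).left (snd Y T).left (snd Y Z).left x.left := by
  refine IsPullback.of_right (h₁₂ := (fst Y Z).left) (v₁₃ := Y.hom) (h₂₂ := Z.hom) ?_ ?_
    (IsPullback.of_hasPullback Y.hom Z.hom)
  · rw [← Over.comp_left, lift_fst, Over.w x]
    exact IsPullback.of_hasPullback Y.hom T.hom
  · rw [← Over.comp_left, lift_snd]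
    rfl

/-- The change of the first factor of a product, with the factors exchanged, is a base change. -/
theorem isPullback_swap (Y : Over S) {T Z : Over S} (x : T ⟶ Z) :
    IsPullback (lift (snd Y T ≫ x) (fst Y T)).left (snd Y T).left (fst Z Y).left x.left := by
  refine IsPullback.of_right (h₁₂ := (snd Z Y).left) (v₁₃ := Y.hom) (h₂₂ := Z.hom) ?_ ?_
    (IsPullback.of_hasPullback Z.hom Y.hom).flip
  · rw [← Over.comp_left, lift_snd, Over.w x]
    exact IsPullback.of_hasPullback Y.hom T.hom
  · rw [← Over.comp_left, lift_fst]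
    rfl

variable {s : S} {K : Type u} [Field K] [Algebra (S.residueField s) K]

/-- The structure map of a field over a residue field. -/
noncomputable def baseK (s : S) (K : Type u) [Field K] [Algebra (S.residueField s) K] :
    Spec (CommRingCat.of K) ⟶ Spec (CommRingCat.of (S.residueField s)) :=
  Spec.map (CommRingCat.ofHom (algebraMap (S.residueField s) K))

/-- A field over a residue field as an object over the base. -/
noncomputable abbrev fieldPtObj (s : S) (K : Type u) [Field K] [Algebra (S.residueField s) K] : Over S :=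
  Over.mk (baseK s K ≫ S.fromSpecResidueField s)

/-- Projection of a base change to a field over a residue field onto the fibre. -/
noncomputable def toFib (Y : Over S) : (Y ⊗ fieldPtObj s K).left ⟶ Y.hom.fiber s :=
  pullback.lift (fst Y (fieldPtObj s K)).left ((snd Y (fieldPtObj s K)).left ≫ baseK s K) (by
    rw [Category.assoc]
    exact (Over.w (fst Y (fieldPtObj s K))).trans (Over.w (snd Y (fieldPtObj s K))).symm)

theorem toFib_fiberι (Y : Over S) :
    toFib Y ≫ Y.hom.fiberι s = (fst Y (fieldPtObj s K)).left := pullback.lift_fst _ _ _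

theorem isPullback_toFib (Y : Over S) :
    IsPullback (toFib Y) (snd Y (fieldPtObj s K)).left (Y.hom.fiberToSpecResidueField s) (baseK s K) := by
  refine IsPullback.of_right ?_ (pullback.lift_snd _ _ _)
    (IsPullback.of_hasPullback Y.hom (S.fromSpecResidueField s))
  show IsPullback (toFib Y ≫ Y.hom.fiberι s) _ _ _
  rw [toFib_fiberι]
  exact IsPullback.of_hasPullback Y.hom (fieldPtObj s K).hom

theorem fst_fieldPtObj_mem (Y : Over S) (p : (Y ⊗ fieldPtObj s K).left) :
    Y.hom ((fst Y (fieldPtObj s K)).left p) = s := by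
  rw [← toFib_fiberι, Scheme.Hom.comp_apply]
  exact (Y.hom.range_fiberι s).le ⟨_, rfl⟩

variable [IsAlgClosed K] [Algebra.IsAlgebraic (S.residueField s) K]

omit [IsAlgClosed K] in
theorem integral_toFib (Y : Over S) :
    IsIntegralHom (toFib (s := s) (K := K) Y) ∧ Flat (toFib (s := s) (K := K) Y) ∧
      Surjective (toFib (s := s) (K := K) Y) := by
  haveI : Flat (baseK s K) := (HasRingHomProperty.Spec_iff (P := @Flat)).2 (RingHom.flat_algebraMap_iff.2 inferInstance)
  haveI : Surjective (baseK s K) := ⟨fun q => ⟨IsLocalRing.closedPoint K,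
    @Subsingleton.elim _ (inferInstanceAs (Subsingleton (PrimeSpectrum (S.residueField s)))) _ q⟩⟩
  haveI : IsIntegralHom (baseK s K) := IsIntegralHom.SpecMap_iff.2
    (fun z => (Algebra.IsAlgebraic.isAlgebraic (R := S.residueField s) z).isIntegral)
  exact ⟨MorphismProperty.of_isPullback (isPullback_toFib Y).flip inferInstance,
    MorphismProperty.of_isPullback (isPullback_toFib Y).flip inferInstance,
    MorphismProperty.of_isPullback (isPullback_toFib Y).flip inferInstance⟩

/-- Points of a fibre through a point with values in an algebraic closure. -/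
theorem exists_field_point (Y : Over S) [LocallyOfFiniteType (Y.hom.fiberToSpecResidueField s)]
    {y : Y.hom.fiber s} (hy : IsClosed ({y} : Set (Y.hom.fiber s))) :
    ∃ x : fieldPtObj s K ⟶ Y, ∀ q, x.left q = Y.hom.fiberι s y := by
  haveI hlft : LocallyOfFiniteType (snd Y (fieldPtObj s K)).left :=
    MorphismProperty.of_isPullback (isPullback_toFib Y) inferInstance
  obtain ⟨hint, -, hsurj⟩ := integral_toFib (s := s) (K := K) Y
  obtain ⟨p, hp⟩ := (toFib (s := s) (K := K) Y).surjective y
  have hpc : IsClosed ({p} : Set (Y ⊗ fieldPtObj s K).left) := by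
    rw [← closure_eq_iff_isClosed]
    refine subset_antisymm (fun p' hp' => ?_) subset_closure
    have hsp : p ⤳ p' := specializes_iff_mem_closure.2 hp'
    have h1 : y ⤳ toFib Y p' := hp ▸ hsp.map (toFib Y).continuous
    have h2 : toFib Y p' = y := by simpa using h1.mem_closed hy rfl
    exact (AlgSpDecent.eq_of_specializes_of_isIntegralHom (toFib Y) hsp (hp.trans h2.symm)).symm
  obtain ⟨x, hx⟩ := exists_point (baseK s K ≫ S.fromSpecResidueField s) hpc
  refine ⟨x, fun q => ?_⟩
  rw [← hp, ← Scheme.Hom.comp_apply, toFib_fiberι, ← hx q, ← left_apply, lift_fst]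

/-- A closed point of the fibre of a group moving given closed points of the fibre into a dense open,
with control of the component through it. -/
theorem exists_translating_point (G X : Over S) [GrpObj G] [LocallyOfFiniteType G.hom]
    (a : AlgGrp.Action G X) (hΦ : Surjective (lift a.act (snd G X)).left) (U : X.left.Opens) (s : S)
    [LocallyOfFiniteType (X.hom.fiberToSpecResidueField s)]
    (hdense : X.hom.base ⁻¹' {s} ⊆ closure ((U : Set X.left) ∩ X.hom.base ⁻¹' {s}))
    (A : Set X.left) (hA : A.Finite) (hAs : A ⊆ X.hom.base ⁻¹' {s})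
    (W : G.left.Opens) (hW : ∀ p : ↥(𝟙_ (Over S)).left, η[G].left.base p ∈ W) :
    ∃ g z : G.left, G.hom g = s ∧ (∀ g', G.hom g' = G.hom g → g ⤳ g' → g' = g) ∧ z ⤳ g ∧ G.hom z = s ∧
      z ∈ W ∧ IsMaxFib G.hom z ∧ FlatMor.fibreDimAt G.hom g = (rd G.hom z : WithBot ℕ∞) ∧
      ∀ y : (G ⊗ X).left, (fst G X).left y = g → (snd G X).left y ∈ A → a.act.left y ∈ U := by
  let K := AlgebraicClosure (S.residueField s)
  let T := fieldPtObj s K
  let F := G.hom.fiber s
  let FX := X.hom.fiber s
  let ι' := G.hom.fiberι s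
  let ιX := X.hom.fiberι s
  haveI : JacobsonSpace (Spec (CommRingCat.of (S.residueField s))) := inferInstance
  haveI : IsLocallyNoetherian F := LocallyOfFiniteType.isLocallyNoetherian (toPt G.hom s)
  haveI : JacobsonSpace F := LocallyOfFiniteType.jacobsonSpace (toPt G.hom s)
  haveI : IsLocallyNoetherian FX :=
    LocallyOfFiniteType.isLocallyNoetherian (X.hom.fiberToSpecResidueField s)
  haveI : JacobsonSpace FX := LocallyOfFiniteType.jacobsonSpace (X.hom.fiberToSpecResidueField s)
  haveI : LocallyOfFiniteType (G.hom.fiberToSpecResidueField s) :=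
    MorphismProperty.pullback_snd (P := @LocallyOfFiniteType) G.hom (S.fromSpecResidueField s) inferInstance
  haveI : LocallyOfFiniteType (snd G T).left :=
    MorphismProperty.pullback_snd (P := @LocallyOfFiniteType) G.hom T.hom inferInstance
  obtain ⟨hintG, hflatG, hsurjG⟩ := integral_toFib (s := s) (K := K) G
  obtain ⟨hintX, hflatX, hsurjX⟩ := integral_toFib (s := s) (K := K) X
  haveI := hflatX
  haveI := hintX
  haveI := hintG
  -- maximal points of the fibre of `X` lie in `U`
  have hU : ∀ ξ : FX, IsMaxPt ξ → ιX ξ ∈ U := fun ξ hξ => by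
    refine mem_of_dense hξ (U.2.preimage ιX.continuous) ?_
    have h1 := hdense ((X.hom.range_fiberι s).le ⟨ξ, rfl⟩)
    rw [ιX.isEmbedding.isInducing.closure_eq_preimage_closure_image, Set.image_preimage_eq_inter_range,
      X.hom.range_fiberι]
    exact h1
  -- the component of the unit
  have hes : G.hom (η[G].left s) = s := by
    rw [← Scheme.Hom.comp_apply, Over.w η[G]]
    rfl
  obtain ⟨e, he⟩ : η[G].left s ∈ Set.range ι' := (G.hom.range_fiberι s).ge hes
  obtain ⟨z, hze, hz⟩ := exists_isMaxPt e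
  have hzW : ι' z ∈ W := (he ▸ hze.map ι'.continuous).mem_open W.2 (hW _)
  obtain ⟨N, hzN, hN⟩ := exists_nhd_isMaxPt hz
  -- orbit maps
  have hbad : ∀ a' : FX, IsClosed ({a'} : Set FX) → ∃ x : T ⟶ X, (∀ q, x.left q = ιX a') ∧
      z ∉ toFib G '' ((lift (fst G T) (snd G T ≫ x) ≫ a.act).left ⁻¹' (U : Set X.left)ᶜ) := by
    intro a' ha'
    obtain ⟨x, hx⟩ := exists_field_point (K := K) X ha'
    refine ⟨x, hx, ?_⟩
    rintro ⟨ep, hep, hepz⟩
    have hmax : IsMaxPt ep := isMaxPt_of_integral (toFib G) (hepz ▸ hz)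
    obtain ⟨ξ, -, hξ⟩ := exists_isMaxPt a'
    obtain ⟨q, hq1, hq2⟩ := Scheme.Pullback.exists_preimage_pullback (f := X.hom) (g := X.hom) (ιX ξ) (ιX a')
      (((X.hom.range_fiberι s).le ⟨ξ, rfl⟩).trans ((X.hom.range_fiberι s).le ⟨a', rfl⟩).symm)
    obtain ⟨r, hr⟩ := hΦ.1 q
    have hr1 : a.act.left r = ιX ξ := by
      rw [← hq1, ← hr, ← Scheme.Hom.comp_apply]
      exact congrArg (fun m => m r) (congrArg Over.Hom.left (lift_fst a.act (snd G X))).symm
    have hr2 : (snd G X).left r = ιX a' := by
      rw [← hq2, ← hr, ← Scheme.Hom.comp_apply]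
      exact congrArg (fun m => m r) (congrArg Over.Hom.left (lift_snd a.act (snd G X))).symm
    obtain ⟨r', hr', -⟩ := Scheme.exists_preimage_of_isPullback (isPullback_map_snd G x) r
      (IsLocalRing.closedPoint K) (hr2.trans (hx _).symm)
    have ho : ∀ p, (fst X T).left ((orbit a x).left p) = (lift (fst G T) (snd G T ≫ x) ≫ a.act).left p :=
      fun p => by rw [← left_apply, orbit, lift_fst]
    have hξ' : toFib X ((orbit a x).left r') = ξ := ιX.isEmbedding.injective (by
      rw [← Scheme.Hom.comp_apply, toFib_fiberι, ho, left_apply, hr', hr1])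
    have hrmax : IsMaxPt ((orbit a x).left r') := isMaxPt_of_integral (toFib X) (hξ' ▸ hξ)
    have h1 := hU _ (isMaxPt_of_flat (toFib X) (isMaxPt_orbit _ a x hrmax hmax))
    rw [← Scheme.Hom.comp_apply, toFib_fiberι, ho] at h1
    exact hep h1
  -- closed specialisations of the given points
  have hspec : ∀ b ∈ A, ∃ b' : FX, IsClosed ({b'} : Set FX) ∧ b ⤳ ιX b' := by
    intro b hb
    obtain ⟨b₀, hb₀⟩ : b ∈ Set.range ιX := (X.hom.range_fiberι s).ge (hAs hb)
    obtain ⟨b', hb', hb'c⟩ := nonempty_inter_closedPoints (Z := closure ({b₀} : Set FX))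
      ⟨b₀, subset_closure rfl⟩ isClosed_closure.isLocallyClosed
    exact ⟨b', hb'c, hb₀ ▸ (specializes_iff_mem_closure.2 hb').map ιX.continuous⟩
  choose b' hb'c hb's using hspec
  choose x hx hxz using fun (b : X.left) (hb : b ∈ A) => hbad (b' b hb) (hb'c b hb)
  haveI := hA.to_subtype
  let O : Set F := (N : Set F) ∩ ⋂ b : A,
    (toFib G '' ((lift (fst G T) (snd G T ≫ x b.1 b.2) ≫ a.act).left ⁻¹' (U : Set X.left)ᶜ))ᶜ
  have hO : IsOpen O := N.2.inter (isOpen_iInter_of_finite fun b =>
    ((toFib G).isClosedMap _ (U.2.isClosed_compl.preimage (Scheme.Hom.continuous _))).isOpen_compl)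
  have hzO : z ∈ O := ⟨hzN, Set.mem_iInter.2 fun b => hxz b.1 b.2⟩
  obtain ⟨g, ⟨hgz, hgN, hgbad⟩, hgc⟩ := nonempty_inter_closedPoints
    (Z := closure {z} ∩ O) ⟨z, subset_closure rfl, hzO⟩
    (isClosed_closure.isLocallyClosed.inter hO.isLocallyClosed)
  have hgs : G.hom (ι' g) = s := (G.hom.range_fiberι s).le ⟨g, rfl⟩
  have hzs : G.hom (ι' z) = s := (G.hom.range_fiberι s).le ⟨z, rfl⟩
  refine ⟨ι' g, ι' z, hgs, fun g' hg' hsp => ?_, (specializes_iff_mem_closure.2 hgz).map ι'.continuous,
    hzs, hzW, (isMaxFib_fiberι G.hom s z).2 hz, ?_, fun y hy1 hy2 => ?_⟩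
  · obtain ⟨g'', rfl⟩ : g' ∈ Set.range ι' := (G.hom.range_fiberι s).ge (hg'.trans hgs)
    have h1 := Specializes.mem_closed (ι'.isEmbedding.isInducing.specializes_iff.1 hsp) hgc rfl
    exact congrArg ι' h1
  · obtain ⟨z', hz'g, hz's, hz'max, hd⟩ := FibGen4.exists_isMaxFib G.hom (ι' g)
    obtain ⟨z'', rfl⟩ : z' ∈ Set.range ι' := (G.hom.range_fiberι s).ge (hz's.trans hgs)
    have h1 : z'' = z := hN g hgN z'' (ι'.isEmbedding.isInducing.specializes_iff.1 hz'g)
      ((isMaxFib_fiberι G.hom s z'').1 hz'max)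
    rw [← hd, FibGen4.fibreDimAt_eq_rd_of_isMaxFib G.hom hz'max, h1]
  · obtain ⟨gm, hgm⟩ := exists_field_point (K := K) G hgc
    let b := (snd G X).left y
    obtain ⟨y₁, hy₁, -⟩ := Scheme.exists_preimage_of_isPullback (isPullback_swap X gm) y
      (IsLocalRing.closedPoint K) (hy1.trans (hgm _).symm)
    have hy₁b : (fst X T).left y₁ = b := by
      show _ = (snd G X).left y
      rw [← hy₁, ← left_apply, lift_snd]
    have hsp : toFib X y₁ ⤳ b' b hy2 := by
      refine ιX.isEmbedding.isInducing.specializes_iff.1 ?_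
      rw [← Scheme.Hom.comp_apply, toFib_fiberι, hy₁b]
      exact hb's b hy2
    obtain ⟨y₂, hy₂, hy₂b⟩ := (toFib (s := s) (K := K) X).isClosedMap.specializingMap hsp
    let yc := (lift (snd X T ≫ gm) (fst X T)).left y₂
    have hyc : y ⤳ yc := hy₁ ▸ Specializes.map hy₂ (Scheme.Hom.continuous _)
    have hyc1 : (fst G X).left yc = ι' g := by
      rw [← left_apply, lift_fst, left_apply, hgm]
    have hyc2 : (snd G X).left yc = ιX (b' b hy2) := by
      rw [← left_apply, lift_snd, ← hy₂b, ← Scheme.Hom.comp_apply, toFib_fiberι]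
    obtain ⟨r, hr, -⟩ := Scheme.exists_preimage_of_isPullback (isPullback_map_snd G (x b hy2)) yc
      (IsLocalRing.closedPoint K) (hyc2.trans (hx b hy2 _).symm)
    have hrg : toFib G r = g := ι'.isEmbedding.injective (by
      rw [← Scheme.Hom.comp_apply, toFib_fiberι, ← hyc1, ← hr, ← left_apply, lift_fst])
    have h1 : (lift (fst G T) (snd G T ≫ x b hy2) ≫ a.act).left r ∈ (U : Set X.left) := by
      by_contra h
      exact Set.mem_iInter.1 hgbad ⟨b, hy2⟩ ⟨r, h, hrg⟩
    rw [left_apply, hr] at h1
    exact (hyc.map (Scheme.Hom.continuous a.act.left)).mem_open U.2 h1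

end Groth.Agent.QSect20
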